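import Cfsg.Agent.Char.Orth

/-!
# Gelfand's trick and the norm of an induced linear character
-/

set_option autoImplicit false

open scoped ComplexConjugate
open Cfsg Finset Module

namespace CF.Cusp
open CF.Char

variable {G : Type*} [Group G]

/-- If a character sums to zero over the image of a finite group, it sums to zero over every
coset of it. -/
theorem van {K : Type*} [Group K] [Fintype K] (f : K →* G) {χ : G → ℂ} (hχ : IsCharacter G χ)
    (h : ∑ k, χ (f k) = 0) (g : G) : ∑ k, χ (g * f k) = 0 := by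
  obtain ⟨n, ρ, rfl⟩ := hχ
  have hc : (Fintype.card K : ℂ) ≠ 0 := by exact_mod_cast Fintype.card_ne_zero
  set E : Module.End ℂ (Fin n → ℂ) := ∑ k, ρ (f k) with hE
  have h1 : E * E = (Fintype.card K : ℂ) • E := by
    rw [hE, sum_mul]
    have : ∀ k, ρ (f k) * ∑ l, ρ (f l) = ∑ l, ρ (f l) := fun k => by
      rw [mul_sum]
      exact Fintype.sum_equiv (Equiv.mulLeft k) _ _ fun l => by simp
    simp only [this, sum_const, card_univ, Nat.cast_smul_eq_nsmul]
  have h2 : IsIdempotentElem ((Fintype.card K : ℂ)⁻¹ • E) := by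
    unfold IsIdempotentElem
    rw [smul_mul_smul_comm, h1, smul_smul, mul_assoc, inv_mul_cancel₀ hc, mul_one]
  have h3 := LinearMap.IsIdempotentElem.eq_zero_of_trace_eq_zero h2 (by
    rw [map_smul, hE, map_sum]
    exact smul_eq_zero_of_right _ h)
  have h4 : E = 0 := (smul_eq_zero_iff_right (inv_ne_zero hc)).1 h3
  have : ∑ k, ρ.character (g * f k) = LinearMap.trace ℂ _ (ρ g * E) := by
    rw [hE, mul_sum, map_sum]
    exact sum_congr rfl fun k _ => by rw [← map_mul]; rfl
  rw [this, h4, mul_zero, map_zero]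

section Gam

variable (U : Subgroup G) [Fintype U] (ψ : U →* ℂˣ)

/-- The multiplicity of the linear character `ψ` of `U`. -/
noncomputable def gam (χ : G → ℂ) : ℂ := classInner (fun u : U => χ u) fun u => ψ u

/-- `g` supports no function of the Hecke algebra. -/
def Irrel (g : G) : Prop := ∃ a b : U, a * g * b = g ∧ ψ a * ψ b ≠ 1

theorem gam_nat {χ : G → ℂ} (h : IsCharacter G χ) : ∃ m : ℕ, gam U ψ χ = m :=
  inner_char_eq_nat (char_restrict h U) (char_linear ψ)

variable {U ψ}

omit [Fintype U] in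
theorem Irrel.mul {g : G} (h : Irrel U ψ g) (a b : U) : Irrel U ψ (a * g * b) := by
  obtain ⟨c, d, h1, h2⟩ := h
  refine ⟨a * c * a⁻¹, b⁻¹ * d * b, ?_, ?_⟩
  · conv_rhs => rw [← h1]
    push_cast
    group
  · simpa [mul_comm, mul_left_comm] using h2

omit [Fintype U] in
theorem conj_lin [Finite U] (u : U) : conj (ψ u : ℂ) = ψ u⁻¹ := by
  have h1 := char_inv (char_linear ψ) u
  exact h1.symm

theorem avg_conj {V : Type*} [AddCommGroup V] [Module ℂ V] [FiniteDimensional ℂ V] [Fintype G]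
    (ρ : Representation ℂ G V) [ρ.IsIrreducible] (X : Module.End ℂ V) :
    ∑ h, ρ h * X * ρ h⁻¹ =
      ((Fintype.card G : ℂ) * LinearMap.trace ℂ V X / finrank ℂ V) • (1 : Module.End ℂ V) := by
  obtain ⟨c, hc⟩ := schur ρ (∑ h, ρ h * X * ρ h⁻¹) fun g => by
    rw [← Module.End.mul_eq_comp, ← Module.End.mul_eq_comp, sum_mul, mul_sum]
    refine (Fintype.sum_equiv (Equiv.mulLeft g) _ _ fun l => ?_).symm
    simp only [Equiv.coe_mulLeft, mul_inv_rev, map_mul, mul_assoc]
    rw [← map_mul ρ g⁻¹, inv_mul_cancel, map_one, mul_one]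
  have h1 := congrArg (LinearMap.trace ℂ V) hc
  rw [map_sum, map_smul, LinearMap.trace_id] at h1
  have h2 : ∀ h, LinearMap.trace ℂ V (ρ h * X * ρ h⁻¹) = LinearMap.trace ℂ V X := fun h => by
    rw [LinearMap.trace_mul_comm, ← mul_assoc, ← map_mul, inv_mul_cancel, map_one, one_mul]
  simp only [h2, sum_const, card_univ, nsmul_eq_mul, smul_eq_mul] at h1
  rw [hc, h1, mul_div_assoc, div_self (finrank_ne_zero_of_irr ρ), mul_one]
  rfl

/-- Gelfand's trick. -/
theorem gelfand [Fintype G] (ι : G → G) (hι : ∀ a b, ι (a * b) = ι b * ι a) (ιU : U ≃ U)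
    (h1 : ∀ u : U, ι u = ιU u) (h2 : ∀ u, ψ (ιU u) = ψ u)
    (h3 : ∀ g, ∃ (a b : U) (n : G), g = a * n * b ∧ (Irrel U ψ n ∨ ι n = n)) {χ : G → ℂ}
    (hχ : IsIrrCharacter G χ) : gam U ψ χ = 0 ∨ gam U ψ χ = 1 := by
  obtain ⟨n, ρ, hρ, rfl⟩ := id hχ
  have hU : (Fintype.card U : ℂ) ≠ 0 := by exact_mod_cast Fintype.card_ne_zero
  have hG : (Fintype.card G : ℂ) ≠ 0 := by exact_mod_cast Fintype.card_ne_zero
  have hd := finrank_ne_zero_of_irr ρ
  set c : U → ℂ := fun u => (Fintype.card U : ℂ)⁻¹ * ψ u⁻¹ with hc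
  set E : Module.End ℂ (Fin n → ℂ) := ∑ u : U, c u • ρ u with hE
  have hl : ∀ v : U, ρ v * E = (ψ v : ℂ) • E := fun v => by
    rw [hE, mul_sum, smul_sum]
    refine Fintype.sum_equiv (Equiv.mulLeft v) _ _ fun l => ?_
    simp only [Equiv.coe_mulLeft, mul_smul_comm, smul_smul, hc, ← map_mul, Subgroup.coe_mul]
    congr 1
    simp only [mul_inv_rev, map_mul, map_inv, Units.val_mul, Units.val_inv_eq_inv_val]
    field_simp
  have hr : ∀ v : U, E * ρ v = (ψ v : ℂ) • E := fun v => by
    rw [hE, sum_mul, smul_sum]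
    refine Fintype.sum_equiv (Equiv.mulRight v) _ _ fun l => ?_
    simp only [Equiv.coe_mulRight, smul_mul_assoc, smul_smul, hc, ← map_mul, Subgroup.coe_mul]
    congr 1
    simp only [mul_inv_rev, map_mul, map_inv, Units.val_mul, Units.val_inv_eq_inv_val]
    field_simp
  have hEE : E * E = E := by
    have : E * E = ∑ u : U, c u • (ρ u * E) := by
      conv_lhs => enter [1]; rw [hE]
      simp only [sum_mul, smul_mul_assoc]
    simp only [this, hl, smul_smul, ← sum_smul, hc]
    simp [mul_assoc, hU]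
  have htr : ∀ g, LinearMap.trace ℂ _ (E * ρ g) = ∑ u : U, c u * ρ.character (u * g) := fun g => by
    rw [hE, sum_mul, map_sum]
    exact sum_congr rfl fun u _ => by rw [smul_mul_assoc, map_smul, ← map_mul]; rfl
  have hγ : LinearMap.trace ℂ _ E = gam U ψ ρ.character := by
    have := htr 1
    rw [map_one, mul_one] at this
    rw [this, gam, inner_def, mul_sum]
    refine sum_congr rfl fun u _ => ?_
    rw [conj_lin, hc, mul_one, Nat.card_eq_fintype_card]
    ring
  have hT : ∀ (a b : U) g, E * ρ (a * g * b) * E = ((ψ a : ℂ) * ψ b) • (E * ρ g * E) := by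
    intro a b g
    rw [map_mul, map_mul, ← mul_assoc, ← mul_assoc, hr, mul_assoc _ (ρ b), hl]
    simp only [smul_mul_assoc, mul_smul_comm, smul_smul, mul_comm]
  have hI : ∀ g, Irrel U ψ g → E * ρ g * E = 0 := by
    rintro g ⟨a, b, e1, e2⟩
    have := hT a b g
    rw [e1, ← sub_eq_zero, ← one_smul ℂ (E * ρ g * E), smul_smul, ← sub_smul, mul_one] at this
    refine (smul_eq_zero_iff_right fun e => e2 ?_).1 this
    exact Units.ext (by simpa using (sub_eq_zero.1 e).symm)
  have hιT : ∀ g, E * ρ (ι g) * E = E * ρ g * E := fun g => by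
    obtain ⟨a, b, m, rfl, h | h⟩ := h3 g
    · rw [hI _ (h.mul a b), hI]
      obtain ⟨a', b', e1, e2⟩ := h.mul a b
      refine ⟨ιU b', ιU a', ?_, by rwa [h2, h2, mul_comm]⟩
      rw [← h1, ← h1, ← hι, ← hι, ← mul_assoc, e1]
    · rw [hι, hι, h, h1, h1, ← mul_assoc, hT, hT, h2, h2, mul_comm]
  have hexp : ∀ g h, E * ρ g * E * ρ h * E = ∑ u : U, c u • (E * ρ (g * u * h) * E) := by
    intro g h
    conv_lhs => enter [1, 1, 2]; rw [hE]
    simp only [mul_sum, sum_mul, mul_smul_comm, smul_mul_assoc, map_mul, mul_assoc]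
  have hcomm : ∀ g h, E * ρ g * E * ρ h * E = E * ρ h * E * ρ g * E := fun g h => by
    have e1 : E * ρ h * E * ρ g * E = E * ρ (ι h) * E * ρ (ι g) * E := by
      calc E * ρ h * E * ρ g * E = (E * ρ h * E) * (E * ρ g * E) := by
            simp only [← mul_assoc]; rw [mul_assoc _ E E, hEE]
        _ = (E * ρ (ι h) * E) * (E * ρ (ι g) * E) := by rw [hιT, hιT]
        _ = _ := by simp only [← mul_assoc]; rw [mul_assoc _ E E, hEE]
    rw [e1, hexp, hexp]
    refine Fintype.sum_equiv ιU _ _ fun u => ?_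
    rw [← hιT, hι, hι, h1, ← mul_assoc]
    congr 1
    simp only [hc, map_inv, h2]
  set d : ℂ := (finrank ℂ (Fin n → ℂ) : ℂ)
  set N : ℂ := (Fintype.card G : ℂ)
  set γ := gam U ψ ρ.character
  have s1 : ∑ g, ∑ h, LinearMap.trace ℂ _ (E * ρ g * E * ρ h * E * ρ h⁻¹ * ρ g⁻¹) =
      (N * γ / d) * (N * γ / d) * γ := by
    have : ∀ g, ∑ h, LinearMap.trace ℂ _ (E * ρ g * E * ρ h * E * ρ h⁻¹ * ρ g⁻¹) =
        (N * γ / d) * LinearMap.trace ℂ _ (E * (ρ g * E * ρ g⁻¹)) := fun g => by
      rw [← map_sum, ← smul_eq_mul (N * γ / d), ← map_smul]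
      congr 1
      calc _ = E * ρ g * E * (∑ h, ρ h * E * ρ h⁻¹) * ρ g⁻¹ := by
            simp only [mul_sum, sum_mul, mul_assoc]
        _ = _ := by rw [avg_conj, hγ]; simp [mul_assoc, N, d]
    simp only [this]
    rw [← mul_sum, ← map_sum, ← mul_sum, avg_conj, hγ, mul_smul_comm, mul_one, map_smul, hγ,
      smul_eq_mul, mul_assoc]
  have s2 : ∑ g, ∑ h, LinearMap.trace ℂ _ (E * ρ h * E * ρ g * E * ρ h⁻¹ * ρ g⁻¹) =
      (N / d) * (N / d) * γ := by
    have : ∀ g, ∑ h, LinearMap.trace ℂ _ (E * ρ h * E * ρ g * E * ρ h⁻¹ * ρ g⁻¹) =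
        (N / d) * (LinearMap.trace ℂ _ (E * ρ g) * LinearMap.trace ℂ _ (E * ρ g⁻¹)) := fun g => by
      have e1 : LinearMap.trace ℂ _ (E * ρ g * E) = LinearMap.trace ℂ _ (E * ρ g) := by
        rw [LinearMap.trace_mul_comm, ← mul_assoc, hEE]
      rw [← map_sum]
      calc _ = LinearMap.trace ℂ _ (E * (∑ h, ρ h * (E * ρ g * E) * ρ h⁻¹) * ρ g⁻¹) := by
            simp only [mul_sum, sum_mul, mul_assoc]
        _ = _ := by
          rw [avg_conj, e1, mul_smul_comm, mul_one, smul_mul_assoc, map_smul, smul_eq_mul]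
          ring
    simp only [this]
    rw [← mul_sum, mul_assoc]
    congr 1
    have e2 : ∀ u v : U, ∑ g, ρ.character (u * g) * ρ.character (v * g⁻¹) =
        N * ρ.character (u * v) / d := fun u v => by
      have := sum_irr_mul_irr_inv hχ hχ ((u : G) * v)
      rw [if_pos rfl, Nat.card_eq_fintype_card, Representation.char_one] at this
      rw [← this]
      refine Fintype.sum_equiv (Equiv.mulLeft (u : G)) _ _ fun g => ?_
      rw [classFun_mul_comm (irr_isClassFunction hχ) (v : G)]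
      simp [mul_assoc]
    simp only [htr, sum_mul_sum]
    rw [sum_comm]
    have e3 : ∀ u : U, ∑ g, ∑ v : U, c u * ρ.character (u * g) * (c v * ρ.character (v * g⁻¹)) =
        N / d * (c u * ∑ v : U, c v * ρ.character (v * u)) := fun u => by
      rw [sum_comm, mul_sum, mul_sum]
      refine sum_congr rfl fun v _ => ?_
      have : ∀ g, c u * ρ.character (u * g) * (c v * ρ.character (v * g⁻¹)) =
          c u * c v * (ρ.character (u * g) * ρ.character (v * g⁻¹)) := fun g => by ring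
      simp only [this]
      rw [← mul_sum, e2, classFun_mul_comm (irr_isClassFunction hχ) (v : G)]
      ring
    simp only [e3, ← htr, hr, map_smul, hγ]
    rw [← mul_sum]
    congr 1
    simp only [hc, smul_eq_mul, map_inv, Units.val_inv_eq_inv_val]
    have : ∀ u : U, (Fintype.card U : ℂ)⁻¹ * (ψ u : ℂ)⁻¹ * (ψ u * γ) =
        (Fintype.card U : ℂ)⁻¹ * γ := fun u => by field_simp
    simp only [this, sum_const, card_univ, nsmul_eq_mul]
    field_simp
  have s3 : (N * γ / d) * (N * γ / d) * γ = (N / d) * (N / d) * γ := by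
    rw [← s1, ← s2]
    simp only [hcomm]
  obtain ⟨m, hm⟩ := gam_nat U ψ (irr_isCharacter hχ)
  have s4 : γ * γ * γ = γ := by
    field_simp at s3
    linear_combination s3
  have s5 : m * m * m = m := by
    rw [show γ = m from hm] at s4
    exact_mod_cast s4
  rw [show γ = m from hm]
  rcases m with _ | _ | m
  · simp
  · simp
  · nlinarith

/-- The norm of the induced character counts the relevant double cosets. -/
theorem sum_gam_sq [Fintype G] (R : Finset G) (h1 : ∀ r ∈ R, ¬ Irrel U ψ r)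
    (h2 : ∀ g, Irrel U ψ g ∨ ∃ r ∈ R, ∃ a b : U, g = a * r * b)
    (h3 : ∀ r ∈ R, ∀ r' ∈ R, ∀ a b : U, r' = a * r * b → r = r') :
    ∑ χ : IrrCharacter G, gam U ψ χ * conj (gam U ψ χ) = #R := by
  classical
  have hU : (Fintype.card U : ℂ) ≠ 0 := by exact_mod_cast Fintype.card_ne_zero
  have e1 : ∀ u v : U, ∑ χ : IrrCharacter G, (χ : G → ℂ) u * conj ((χ : G → ℂ) v) =
      ∑ g : G, if v * g * (u⁻¹ : U) = g then 1 else 0 := fun u v => by
    rw [sum_irr_mul_conj]
    have e : ∀ g : G, v * g * (u⁻¹ : U) = g ↔ g * u * g⁻¹ = v := fun g => by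
      rw [Subgroup.coe_inv, mul_inv_eq_iff_eq_mul, mul_inv_eq_iff_eq_mul, eq_comm]
    simp only [e, sum_boole]
    split_ifs with h
    · rw [← card_conjugators h, Nat.card_eq_fintype_card, Fintype.card_subtype]
    · rw [filter_eq_empty_iff.2 fun g _ hg => h (isConj_iff.2 ⟨g, hg⟩)]
      simp
  have e2 : ∀ g : G, (∑ a : U, ∑ b : U, if a * g * b = g then (ψ a : ℂ) * ψ b else 0) =
      ∑ r ∈ R, ∑ a : U, ∑ b : U, if a * r * b = g then 1 else 0 := fun g => by
    by_cases hg : Irrel U ψ g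
    · rw [sum_eq_zero (s := R) fun r hr => sum_eq_zero fun a _ => sum_eq_zero fun b _ =>
        if_neg fun e => h1 r hr (by simpa [← e, mul_assoc] using hg.mul a⁻¹ b⁻¹)]
      obtain ⟨c, d, e1, e2⟩ := hg
      set S := ∑ a : U, ∑ b : U, if a * g * b = g then (ψ a : ℂ) * ψ b else 0 with hS
      have : S = (ψ c : ℂ) * ψ d * S := by
        rw [hS, mul_sum]
        refine (Fintype.sum_equiv (Equiv.mulRight c) _ _ fun a => ?_).symm
        rw [mul_sum]
        refine Fintype.sum_equiv (Equiv.mulLeft d) _ _ fun b => ?_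
        have : ((a * c : U) : G) * g * (d * b : U) = a * g * b := by
          conv_rhs => rw [← e1]
          simp [mul_assoc]
        simp only [Equiv.coe_mulRight, Equiv.coe_mulLeft, this, map_mul, Units.val_mul]
        split_ifs <;> ring
      rw [← sub_eq_zero, ← one_mul S, ← mul_assoc, mul_one, ← sub_mul] at this
      refine (mul_eq_zero.1 this).resolve_left fun e => e2 ?_
      exact Units.ext (by simpa using (sub_eq_zero.1 e).symm)
    · obtain ⟨r, hr, c, d, rfl⟩ := (h2 g).resolve_left hg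
      rw [sum_eq_single_of_mem r hr fun r' hr' hne => sum_eq_zero fun a _ => sum_eq_zero
        fun b _ => if_neg fun e => hne (h3 r' hr' r hr (c⁻¹ * a) (b * d⁻¹) (by
          simp only [Subgroup.coe_mul, Subgroup.coe_inv]
          rw [show (c : G)⁻¹ * a * r' * (b * (d : G)⁻¹) = (c : G)⁻¹ * (a * r' * b) * (d : G)⁻¹ by
            group, e]
          group))]
      refine Fintype.sum_equiv (Equiv.mulRight c) _ _ fun a => ?_
      refine Fintype.sum_equiv (Equiv.mulLeft d) _ _ fun b => ?_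
      have : ((a * c : U) : G) * r * (d * b : U) = a * (c * r * d) * b := by simp [mul_assoc]
      simp only [Equiv.coe_mulRight, Equiv.coe_mulLeft, this]
      split_ifs with h
      · by_contra e
        exact hg ⟨a, b, h, fun e' => e (by rw [← Units.val_mul, e', Units.val_one])⟩
      · rfl
  have e3 : ∑ χ : IrrCharacter G, gam U ψ χ * conj (gam U ψ χ) =
      ((Fintype.card U : ℂ)⁻¹ * (Fintype.card U : ℂ)⁻¹) *
        ∑ g : G, ∑ a : U, ∑ b : U, if a * g * b = g then (ψ a : ℂ) * ψ b else 0 := by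
    have : ∀ χ : IrrCharacter G, gam U ψ χ * conj (gam U ψ χ) =
        ((Fintype.card U : ℂ)⁻¹ * (Fintype.card U : ℂ)⁻¹) * ∑ v : U, ∑ u : U,
          (ψ v : ℂ) * ψ u⁻¹ * ((χ : G → ℂ) u * conj ((χ : G → ℂ) v)) := fun χ => by
      rw [gam, inner_def, map_mul, map_sum, Nat.card_eq_fintype_card, map_inv₀, map_natCast,
        mul_mul_mul_comm, mul_comm (∑ _, _), sum_mul_sum]
      congr 1
      refine sum_congr rfl fun v _ => sum_congr rfl fun u _ => ?_
      rw [map_mul, Complex.conj_conj, conj_lin]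
      ring
    simp only [this]
    rw [← mul_sum, sum_comm]
    congr 1
    rw [sum_comm (f := fun (g : G) (a : U) => _)]
    refine sum_congr rfl fun v _ => ?_
    rw [sum_comm, sum_comm (f := fun (g : G) (a : U) => _)]
    refine Fintype.sum_equiv (Equiv.inv U) _ _ fun u => ?_
    rw [← mul_sum, e1, mul_sum]
    simp
  rw [e3]
  simp only [e2]
  rw [sum_comm]
  have : ∀ r : G, (∑ g : G, ∑ a : U, ∑ b : U, if a * r * b = g then (1 : ℂ) else 0) =
      (Fintype.card U : ℂ) * Fintype.card U := fun r => by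
    rw [sum_comm]
    have : ∀ a : U, (∑ g : G, ∑ b : U, if a * r * b = g then (1 : ℂ) else 0) = Fintype.card U :=
      fun a => by rw [sum_comm]; simp
    simp only [this, sum_const, card_univ, nsmul_eq_mul]
  simp only [this, sum_const, nsmul_eq_mul]
  field_simp

end Gam

end CF.Cusp
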