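import Mathlib

/-!
# Permutations with `w (j + 1) ≤ w j + 1`
-/

set_option autoImplicit false

open Finset

namespace CF.Cusp

variable {n : ℕ}

/-- Every step is a descent or an increase by one. -/
def RelP (w : Equiv.Perm (Fin n)) : Prop :=
  ∀ j j' : Fin n, j'.1 = j.1 + 1 → w j' < w j ∨ (w j').1 = (w j).1 + 1

theorem RelP.ivt {w : Equiv.Perm (Fin n)} (h : RelP w) {i : Fin n} {v : ℕ} (hv : (w i).1 ≤ v) :
    ∀ (m : ℕ) (j : Fin n), j.1 = i.1 + m → v ≤ (w j).1 → ∃ l, i ≤ l ∧ l ≤ j ∧ (w l).1 = v := by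
  intro m
  induction m with
  | zero =>
    intro j hj h2
    obtain rfl : j = i := Fin.ext hj
    exact ⟨j, le_rfl, le_rfl, le_antisymm hv h2⟩
  | succ m ih =>
    intro j hj h2
    let j0 : Fin n := ⟨i.1 + m, by omega⟩
    by_cases h3 : v ≤ (w j0).1
    · obtain ⟨l, h4, h5, h6⟩ := ih j0 rfl h3
      exact ⟨l, h4, h5.trans (by rw [Fin.le_def]; simp [j0]; omega), h6⟩
    · refine ⟨j, by rw [Fin.le_def]; omega, le_rfl, ?_⟩
      rcases h j0 j (by simp [j0]; omega) with h4 | h4
      · rw [Fin.lt_def] at h4; omega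
      · omega

theorem RelP.adj {w : Equiv.Perm (Fin n)} (h : RelP w) {i j : Fin n} (hij : i < j)
    (e : (w j).1 = (w i).1 + 1) : j.1 = i.1 + 1 := by
  rw [Fin.lt_def] at hij
  let i' : Fin n := ⟨i.1 + 1, by omega⟩
  rcases h i i' rfl with h1 | h1
  · rw [Fin.lt_def] at h1
    obtain ⟨l, h2, -, h3⟩ := h.ivt h1.le (j.1 - i'.1) j (by simp [i']; omega) (by omega)
    obtain rfl := w.injective (Fin.ext h3)
    rw [Fin.le_def] at h2
    simp [i'] at h2
  · rw [w.injective (Fin.ext (e.trans h1.symm))]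

theorem RelP.lt {w w' : Equiv.Perm (Fin n)} (h : RelP w)
    (e : ∀ j j' : Fin n, j'.1 = j.1 + 1 → (w j').1 = (w j).1 + 1 → (w' j').1 = (w' j).1 + 1) :
    ∀ (m : ℕ) (i j : Fin n), j.1 = i.1 + m + 1 → w i < w j → w' i < w' j := by
  intro m
  induction m with
  | zero =>
    intro i j hj h1
    rw [Fin.lt_def] at h1 ⊢
    rcases h i j hj with h2 | h2
    · rw [Fin.lt_def] at h2; omega
    · have := e i j hj h2; omega
  | succ m ih =>
    intro i j hj h1
    rw [Fin.lt_def] at h1
    obtain ⟨l, h2, -, h3⟩ := h.ivt (i := i) (v := (w i).1 + 1) (by omega) (m + 2) j (by omega) h1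
    have h4 : i < l := lt_of_le_of_ne h2 fun e => by rw [e] at h3; omega
    have h5 := h.adj h4 h3
    have h6 := e i l h5 h3
    have h7 : w l ≠ w j := fun e => by have := w.injective e; omega
    have := ih l j (by omega) (lt_of_le_of_ne (by rw [Fin.le_def]; omega) h7)
    rw [Fin.lt_def] at this ⊢
    omega

theorem RelP.ext {w w' : Equiv.Perm (Fin n)} (h : RelP w) (h' : RelP w')
    (e : ∀ j j' : Fin n, j'.1 = j.1 + 1 → ((w j').1 = (w j).1 + 1 ↔ (w' j').1 = (w' j).1 + 1)) :
    w = w' := by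
  have h1 : ∀ i j, w i < w j → w' i < w' j := fun i j hij => by
    rcases lt_trichotomy i j with h2 | rfl | h2
    · exact h.lt (fun j j' a => (e j j' a).1) (j.1 - i.1 - 1) i j (by rw [Fin.lt_def] at h2; omega) hij
    · exact absurd hij (lt_irrefl _)
    · by_contra h3
      have h4 : w' j < w' i := lt_of_le_of_ne (not_lt.1 h3) fun e => h2.ne (w'.injective e)
      exact hij.not_gt (h'.lt (fun j j' a => (e j j' a).2) (i.1 - j.1 - 1) j i
        (by rw [Fin.lt_def] at h2; omega) h4)
  have h2 : StrictMono fun i => w' (w.symm i) := fun i j hij => h1 _ _ (by simpa using hij)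
  ext i
  have h3 : w' (w.symm (w i)) = w i := le_antisymm (h2.le_id _) (h2.id_le _)
  simpa using (congrArg Fin.val h3).symm

section Code

variable {F : Type*} [Field F] (d : Fin n → F)

/-- The break points. -/
def Brk (l : ℕ) : Prop := ∀ h : l < n, d ⟨l, h⟩ ≠ 0

open _root_.Classical in
/-- Start of the run. -/
noncomputable def rs (j : ℕ) : ℕ := Nat.findGreatest (Brk d) j

theorem exists_brk (j : ℕ) : ∃ l, j < l ∧ Brk d l := ⟨j + n + 1, by omega, fun h => by omega⟩

open _root_.Classical in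
/-- End of the run. -/
noncomputable def re (j : ℕ) : ℕ := Nat.find (exists_brk d j)

theorem rs_le (j : ℕ) : rs d j ≤ j := by classical exact Nat.findGreatest_le j

theorem lt_re (j : ℕ) : j < re d j := by classical exact (Nat.find_spec (exists_brk d j)).1

theorem brk_re (j : ℕ) : Brk d (re d j) := by classical exact (Nat.find_spec (exists_brk d j)).2

variable {d}

theorem le_rs {j l : ℕ} (h : l ≤ j) (hl : Brk d l) : l ≤ rs d j := by
  classical exact Nat.le_findGreatest h hl

theorem re_le {j l : ℕ} (h : j < l) (hl : Brk d l) : re d j ≤ l := by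
  classical exact Nat.find_min' _ ⟨h, hl⟩

theorem brk_rs (h0 : Brk d 0) (j : ℕ) : Brk d (rs d j) := by
  classical exact Nat.findGreatest_spec (Nat.zero_le j) h0

theorem run_eq (h0 : Brk d 0) {j l : ℕ} (h1 : rs d j ≤ l) (h2 : l < re d j) :
    rs d l = rs d j ∧ re d l = re d j := by
  have a1 := le_rs h1 (brk_rs h0 j)
  have a2 := re_le h2 (brk_re d j)
  have a3 := rs_le d l
  have a4 := lt_re d l
  have a5 : rs d l ≤ j := by
    by_contra h
    have := re_le (not_le.1 h) (brk_rs h0 l)
    omega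
  have a6 : j < re d l := by
    by_contra h
    have := le_rs (not_lt.1 h) (brk_re d l)
    omega
  exact ⟨le_antisymm (le_rs a5 (brk_rs h0 l)) a1, le_antisymm a2 (re_le a6 (brk_re d l))⟩

theorem re_le_n {j : ℕ} (h : j < n) : re d j ≤ n := re_le h fun h => absurd h (lt_irrefl _)

variable (d) in
/-- Reversal inside the runs. -/
noncomputable def tau (j : Fin n) : Fin n :=
  ⟨rs d j + re d j - 1 - j, by
    have := rs_le d j; have := lt_re d j; have := re_le_n (d := d) j.2; omega⟩

theorem tau_run (h0 : Brk d 0) (j : Fin n) :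
    rs d (tau d j) = rs d j ∧ re d (tau d j) = re d j := by
  have := rs_le d j
  have := lt_re d j
  exact run_eq h0 (by simp [tau]; omega) (by simp [tau]; omega)

theorem tau_tau (h0 : Brk d 0) (j : Fin n) : tau d (tau d j) = j := by
  have := rs_le d j
  have := lt_re d j
  obtain ⟨h1, h2⟩ := tau_run h0 j
  apply Fin.ext
  change rs d (tau d j) + re d (tau d j) - 1 - (tau d j).1 = j
  rw [h1, h2]
  simp only [tau]
  omega

/-- The permutation of a code. -/
noncomputable def wOf (h0 : Brk d 0) : Equiv.Perm (Fin n) :=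
  Fin.revPerm * Function.Involutive.toPerm (tau d) (tau_tau h0)

theorem wOf_apply (h0 : Brk d 0) (j : Fin n) : wOf h0 j = (tau d j).rev := rfl

/-- The scalars of a code. -/
noncomputable def cOf (h0 : Brk d 0) (j : Fin n) : Fˣ :=
  Units.mk0 (d ⟨rs d j, (rs_le d j).trans_lt j.2⟩) (brk_rs h0 j _)

theorem wOf_step (h0 : Brk d 0) {j j' : Fin n} (e : j'.1 = j.1 + 1) :
    (d j' ≠ 0 → wOf h0 j' < wOf h0 j ∧ (cOf h0 j' : F) = d j') ∧
      (d j' = 0 → (wOf h0 j').1 = (wOf h0 j).1 + 1 ∧ cOf h0 j = cOf h0 j') := by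
  have a1 := rs_le d j
  have a2 := lt_re d j
  have a3 := rs_le d j'
  have a4 := lt_re d j'
  have a5 := re_le_n (d := d) j.2
  have a6 := re_le_n (d := d) j'.2
  refine ⟨fun h => ?_, fun h => ?_⟩
  · have hb : Brk d j' := fun _ => h
    have b1 := le_rs le_rfl hb
    have b2 := re_le (show j.1 < j'.1 by omega) hb
    refine ⟨?_, ?_⟩
    · rw [Fin.lt_def]
      simp only [wOf_apply, Fin.val_rev, tau]
      omega
    · simp only [cOf, Units.val_mk0]
      congr 1
      exact Fin.ext (le_antisymm a3 b1)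
  · have : re d j ≠ j' := fun e' => brk_re d j (e' ▸ j'.2) (by simpa [e'] using h)
    obtain ⟨b1, b2⟩ := run_eq h0 (j := j) (l := j') (by omega) (by omega)
    refine ⟨?_, ?_⟩
    · simp only [wOf_apply, Fin.val_rev, tau, b1, b2]
      omega
    · apply Units.ext
      simp only [cOf, Units.val_mk0, b1]

theorem cOf_zero (h0 : Brk d 0) {j : Fin n} (e : j.1 = 0) : (cOf h0 j : F) = d j := by
  have := rs_le d j
  simp only [cOf, Units.val_mk0]
  congr 1
  exact Fin.ext (by simp only; omega)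

theorem cOf_tau (h0 : Brk d 0) (j : Fin n) : cOf h0 (tau d j) = cOf h0 j := by
  apply Units.ext
  simp only [cOf, Units.val_mk0, (tau_run h0 j).1]

/-- Relevant monomial data. -/
def RelM (w : Equiv.Perm (Fin n)) (c : Fin n → Fˣ) : Prop :=
  ∀ j j' : Fin n, j'.1 = j.1 + 1 → w j' < w j ∨ ((w j').1 = (w j).1 + 1 ∧ c j = c j')

theorem RelM.relP {w : Equiv.Perm (Fin n)} {c : Fin n → Fˣ} (h : RelM w c) : RelP w :=
  fun j j' e => (h j j' e).imp_right And.left

theorem relM_of (h0 : Brk d 0) : RelM (wOf h0) (cOf h0) := fun j j' e => by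
  by_cases h : d j' = 0
  · exact Or.inr ((wOf_step h0 e).2 h)
  · exact Or.inl ((wOf_step h0 e).1 h).1

theorem code_inj {d' : Fin n → F} (h0 : Brk d 0) (h0' : Brk d' 0) (e1 : wOf h0 = wOf h0')
    (e2 : cOf h0 = cOf h0') : d = d' := by
  funext j'
  by_cases hj : j'.1 = 0
  · rw [← cOf_zero h0 hj, ← cOf_zero h0' hj, e2]
  let j : Fin n := ⟨j'.1 - 1, by omega⟩
  have e : j'.1 = j.1 + 1 := by simp only [j]; omega
  obtain ⟨a1, a2⟩ := wOf_step h0 e
  obtain ⟨b1, b2⟩ := wOf_step h0' e
  rw [← e1, ← e2] at b1 b2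
  by_cases h : d j' = 0 <;> by_cases h' : d' j' = 0
  · rw [h, h']
  · have := (a2 h).1; have := (b1 h').1; rw [Fin.lt_def] at this; omega
  · have := (b2 h').1; have := (a1 h).1; rw [Fin.lt_def] at this; omega
  · rw [← (a1 h).2, (b1 h').2]

theorem RelM.exists_code {w : Equiv.Perm (Fin n)} {c : Fin n → Fˣ} (h : RelM w c) :
    ∃ (d : Fin n → F) (h0 : Brk d 0), w = wOf h0 ∧ c = cOf h0 := by
  classical
  let d : Fin n → F := fun j' =>
    if ∃ j : Fin n, j'.1 = j.1 + 1 ∧ (w j').1 = (w j).1 + 1 then 0 else c j'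
  have h0 : Brk d 0 := fun _ => by simp [d]
  have hd : ∀ j j' : Fin n, j'.1 = j.1 + 1 → ((w j').1 = (w j).1 + 1 ↔ d j' = 0) := by
    intro j j' e
    refine ⟨fun h1 => if_pos ⟨j, e, h1⟩, fun h1 => ?_⟩
    by_contra h2
    refine (c j').ne_zero ((if_neg ?_).symm.trans h1)
    rintro ⟨l, a1, a2⟩
    obtain rfl : l = j := Fin.ext (by omega)
    exact h2 a2
  refine ⟨d, h0, h.relP.ext (relM_of h0).relP fun j j' e => ?_, ?_⟩
  · rw [hd j j' e]
    refine ⟨fun h1 => ((wOf_step h0 e).2 h1).1, fun h1 => ?_⟩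
    by_contra h2
    have := ((wOf_step h0 e).1 h2).1
    rw [Fin.lt_def] at this
    omega
  · have : ∀ (m : ℕ) (j : Fin n), j.1 = m → c j = cOf h0 j := by
      intro m
      induction m with
      | zero =>
        intro j e
        apply Units.ext
        rw [cOf_zero h0 e]
        exact (if_neg (by rintro ⟨l, a, -⟩; omega)).symm
      | succ m ih =>
        intro j' e
        let j : Fin n := ⟨m, by omega⟩
        by_cases h1 : d j' = 0
        · rw [← ((wOf_step h0 (j := j) e).2 h1).2, ← ih j rfl]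
          rcases h j j' e with h2 | h2
          · have := (hd j j' e).2 h1
            rw [Fin.lt_def] at h2
            omega
          · exact h2.2.symm
        · apply Units.ext
          rw [((wOf_step h0 (j := j) e).1 h1).2]
          exact (if_neg fun h2 => h1 (if_pos h2)).symm
    exact funext fun j => this _ j rfl

theorem RelM.inv {w : Equiv.Perm (Fin n)} {c : Fin n → Fˣ} (h : RelM w c) (j : Fin n) :
    w (w j).rev = j.rev ∧ c (w j).rev = c j := by
  obtain ⟨d, h0, rfl, rfl⟩ := h.exists_code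
  simp only [wOf_apply, Fin.rev_rev, tau_tau h0, cOf_tau, and_self]

/-- The number of codes. -/
def aN (q : ℕ) : ℕ → ℕ
  | 0 => 1
  | n + 1 => (q - 1) * q ^ n

theorem card_code [Fintype F] :
    Nat.card {d : Fin n → F // Brk d 0} = aN (Fintype.card F) n := by
  classical
  cases n with
  | zero =>
    rw [Nat.card_congr (Equiv.subtypeUnivEquiv (p := fun d : Fin 0 → F => Brk d 0)
      fun d h => absurd h (lt_irrefl _))]
    simp [aN]
  | succ n =>
    let e : {d : Fin (n + 1) → F // Brk d 0} ≃ Fˣ × (Fin n → F) :=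
      { toFun := fun d => (Units.mk0 (d.1 0) (d.2 _), Fin.tail d.1)
        invFun := fun x => ⟨Fin.cons x.1 x.2, fun _ => by simp⟩
        left_inv := fun d => Subtype.ext (Fin.cons_self_tail d.1)
        right_inv := fun x => by simp }
    rw [Nat.card_congr e]
    simp [aN, Nat.card_eq_fintype_card, Fintype.card_units]

end Code

end CF.Cusp
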