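import Cfsg.Agent.Cusp.A
import Cfsg.Agent.Cusp.B
import Cfsg.Agent.Classical.UniA

/-!
# The Gelfand-Graev character of `GL_n(q)`: multiplicity one and norm
-/

set_option autoImplicit false

open scoped ComplexConjugate MatrixGroups
open Cfsg Finset Matrix

namespace CF.Cusp
open CF.Char CF.Classical

variable {n : ℕ} {F : Type*} [Field F]

/-- Unitriangular, with the first `k` columns trivial. -/
def InU (k : ℕ) (M : Matrix (Fin n) (Fin n) F) : Prop :=
  ∀ i j : Fin n, (j.1 < k ∨ j ≤ i) → M i j = (1 : Matrix (Fin n) (Fin n) F) i j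

theorem inU_zero {M : Matrix (Fin n) (Fin n) F} :
    InU 0 M ↔ M.BlockTriangular id ∧ ∀ i, M i i = 1 :=
  ⟨fun h => ⟨fun i j e => (h i j (Or.inr e.le)).trans (one_apply_ne e.ne'),
    fun i => (h i i (Or.inr le_rfl)).trans (one_apply_eq i)⟩, fun h i j e => by
    rcases (e.resolve_left (Nat.not_lt_zero _)).eq_or_lt with rfl | e
    · rw [h.2, one_apply_eq]
    · rw [h.1 e, one_apply_ne e.ne']⟩

theorem tri_diag {M N : Matrix (Fin n) (Fin n) F} (h : M.BlockTriangular id)
    (h' : N.BlockTriangular id) (i : Fin n) : (M * N) i i = M i i * N i i := by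
  rw [mul_apply, sum_eq_single i _ (by simp)]
  intro l _ hl
  rcases lt_or_gt_of_ne hl with e | e
  · rw [h e, zero_mul]
  · rw [h' e, mul_zero]

theorem tri_inv {g : GL (Fin n) F} (h : g.1.BlockTriangular id) : g⁻¹.1.BlockTriangular id := by
  rw [coe_units_inv]
  let := g.invertible
  exact blockTriangular_inv_of_blockTriangular h

variable (n F) in
/-- The unitriangular group. -/
def Uni : Subgroup (GL (Fin n) F) where
  carrier := {g | InU 0 g.1}
  one_mem' := fun _ _ _ => rfl
  mul_mem' := fun {a b} ha hb => by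
    obtain ⟨a1, a2⟩ := inU_zero.1 ha
    obtain ⟨b1, b2⟩ := inU_zero.1 hb
    exact inU_zero.2 ⟨a1.mul b1, fun i => (tri_diag a1 b1 i).trans (by rw [a2, b2, one_mul])⟩
  inv_mem' := fun {a} ha => by
    obtain ⟨a1, a2⟩ := inU_zero.1 ha
    refine inU_zero.2 ⟨tri_inv a1, fun i => ?_⟩
    have := tri_diag a1 (tri_inv a1) i
    rwa [← Units.val_mul, mul_inv_cancel, a2, one_mul, Units.val_one, one_apply_eq, eq_comm] at this

theorem mem_Uni {g : GL (Fin n) F} : g ∈ Uni n F ↔ InU 0 g.1 := Iff.rfl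

/-- The sum of the superdiagonal entries in the columns `≥ k`. -/
def sd (k : ℕ) (M : Matrix (Fin n) (Fin n) F) : F :=
  ∑ i : Fin n, ∑ j : Fin n, if j.1 = i.1 + 1 ∧ k ≤ j.1 then M i j else 0

theorem sd_mul (k : ℕ) {M N : Matrix (Fin n) (Fin n) F} (h : InU 0 M) (h' : InU 0 N) :
    sd k (M * N) = sd k M + sd k N := by
  obtain ⟨a1, a2⟩ := inU_zero.1 h
  obtain ⟨b1, b2⟩ := inU_zero.1 h'
  simp only [sd, ← sum_add_distrib]
  refine sum_congr rfl fun i _ => sum_congr rfl fun j _ => ?_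
  split_ifs with e
  · have hij : i ≠ j := fun e' => by rw [e'] at e; omega
    rw [mul_apply, ← sum_subset (subset_univ {i, j}), sum_pair hij, a2, b2]
    · ring
    · intro l _ hl
      simp only [mem_insert, mem_singleton, not_or, Fin.ext_iff] at hl
      by_cases e' : l < i
      · rw [a1 e', zero_mul]
      · rw [b1 (show j < l by rw [Fin.lt_def] at e' ⊢; omega), mul_zero]
  · rw [add_zero]

theorem sd_one (k : ℕ) : sd k (1 : Matrix (Fin n) (Fin n) F) = 0 :=
  sum_eq_zero fun i _ => sum_eq_zero fun j _ => by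
    split_ifs with e
    · exact one_apply_ne fun e' => by rw [e'] at e; omega
    · rfl

variable (n) in
/-- The nondegenerate character. -/
noncomputable def psi (ψ0 : AddChar F ℂ) : Uni n F →* ℂˣ :=
  MonoidHom.toHomUnits
    { toFun := fun u => ψ0 (sd 0 u.1.1)
      map_one' := by simp [sd_one]
      map_mul' := fun a b => by
        rw [← AddChar.map_add_eq_mul, ← sd_mul 0 a.2 b.2]; rfl }

theorem psi_val (ψ0 : AddChar F ℂ) (u : Uni n F) : (psi n ψ0 u : ℂ) = ψ0 (sd 0 u.1.1) := rfl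

/-- Diagonal matrices. -/
def diagGL (c : Fin n → Fˣ) : GL (Fin n) F :=
  ⟨diagonal fun i => c i, diagonal fun i => (c i)⁻¹.1, by simp, by simp⟩

/-- Monomial matrices. -/
def mono (w : Equiv.Perm (Fin n)) (c : Fin n → Fˣ) : GL (Fin n) F := permGL F w * diagGL c

theorem mono_apply (w : Equiv.Perm (Fin n)) (c : Fin n → Fˣ) (i j : Fin n) :
    (mono w c).1 i j = if i = w j then (c j : F) else 0 := by
  simp [mono, diagGL, permGL_apply]

theorem mul_mono (M : Matrix (Fin n) (Fin n) F) (w : Equiv.Perm (Fin n)) (c : Fin n → Fˣ)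
    (i j : Fin n) : (M * (mono w c).1) i j = M i (w j) * c j := by
  simp [mul_apply, mono_apply]

theorem mono_mul (M : Matrix (Fin n) (Fin n) F) (w : Equiv.Perm (Fin n)) (c : Fin n → Fˣ)
    (i j : Fin n) : ((mono w c).1 * M) (w i) j = c i * M i j := by
  simp [mul_apply, mono_apply]

theorem exists_diag {b : GL (Fin n) F} (h : b.1.BlockTriangular id) :
    ∃ c : Fin n → Fˣ, b * (diagGL c)⁻¹ ∈ Uni n F ∧ (diagGL c)⁻¹ * b ∈ Uni n F := by
  have h1 : ∀ i, b.1 i i ≠ 0 := fun i e => by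
    have := tri_diag h (tri_inv h) i
    rw [← Units.val_mul, mul_inv_cancel, e, zero_mul, Units.val_one, one_apply_eq] at this
    exact one_ne_zero this
  let c : Fin n → Fˣ := fun i => Units.mk0 _ (h1 i)
  have h2 : (diagGL c)⁻¹.1.BlockTriangular id := blockTriangular_diagonal _
  have h3 : ∀ i, (diagGL c)⁻¹.1 i i = (b.1 i i)⁻¹ := fun i => by
    change diagonal _ i i = _
    simp [c]
  exact ⟨c, inU_zero.2 ⟨h.mul h2, fun i => (tri_diag h h2 i).trans (by simp [h3, h1])⟩,
    inU_zero.2 ⟨h2.mul h, fun i => (tri_diag h2 h i).trans (by simp [h3, h1])⟩⟩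

theorem bruhat (g : GL (Fin n) F) :
    ∃ (a b : Uni n F) (w : Equiv.Perm (Fin n)) (c : Fin n → Fˣ), g = a * mono w c * b := by
  obtain ⟨w, b, b', h1, h2, e⟩ := exists_bruhat_GL g
  obtain ⟨c, h3, -⟩ := exists_diag (tri_inv h1)
  obtain ⟨c', -, h4⟩ := exists_diag h2
  refine ⟨⟨_, h3⟩, ⟨_, h4⟩, w, fun j => c (w j) * c' j, ?_⟩
  have : mono w (fun j => c (w j) * c' j) = diagGL c * permGL F w * diagGL c' := by
    ext i j
    rw [mono_apply]
    simp only [diagGL, Units.val_mul, mul_diagonal, diagonal_mul, permGL_apply]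
    split_ifs with h
    · rw [h, mul_one]
    · simp
  rw [this, eq_inv_mul_iff_mul_eq.2 e]
  simp [mul_assoc]

theorem conj_mono {w w' : Equiv.Perm (Fin n)} {c c' : Fin n → Fˣ} {a b : GL (Fin n) F}
    (e : a * mono w c = mono w' c' * b) (i j : Fin n) :
    a.1 (w' i) (w j) * c j = c' i * b.1 i j := by
  rw [← mul_mono, ← mono_mul, ← Units.val_mul, ← Units.val_mul, e]

theorem bruhat_uniq {w w' : Equiv.Perm (Fin n)} {c c' : Fin n → Fˣ} {a b : Uni n F}
    (e : mono w' c' = a * mono w c * b) : w = w' ∧ c = c' := by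
  have e1 := conj_mono (a := a) (b := (b⁻¹ : Uni n F)) (w := w) (w' := w') (c := c) (c' := c')
    (by rw [e]; simp)
  obtain ⟨a1, a2⟩ := inU_zero.1 a.2
  obtain ⟨b1, b2⟩ := inU_zero.1 b⁻¹.2
  have h1 : ∀ j, w'.symm (w j) ≤ j := fun j => by
    by_contra h
    have := e1 (w'.symm (w j)) j
    rw [b1 (not_le.1 h), Equiv.apply_symm_apply, a2, one_mul, mul_zero] at this
    exact (c j).ne_zero this
  have h2 : ∀ j, w'.symm (w j) = j := by
    have := (sum_eq_sum_iff_of_le (s := univ) (f := fun j => (w'.symm (w j)).1)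
      (g := fun j => j.1) fun j _ => h1 j).1 (Equiv.sum_comp (w.trans w'.symm) fun j => j.1)
    exact fun j => Fin.ext (this j (mem_univ _))
  obtain rfl : w = w' := Equiv.ext fun j => w'.symm_apply_eq.1 (h2 j)
  refine ⟨rfl, funext fun j => Units.ext ?_⟩
  have := e1 j j
  rwa [a2, b2, one_mul, mul_one] at this

variable {ψ0 : AddChar F ℂ}

theorem not_irrel {w : Equiv.Perm (Fin n)} {c : Fin n → Fˣ} (h : RelM w c) :
    ¬ Irrel (Uni n F) (psi n ψ0) (mono w c) := by
  rintro ⟨a, b, e, e2⟩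
  have e1 := conj_mono (a := a) (b := (b⁻¹ : Uni n F)) (w := w) (w' := w) (c := c) (c' := c)
    (by rw [Subgroup.coe_inv, eq_mul_inv_iff_mul_eq, e])
  obtain ⟨a1, -⟩ := inU_zero.1 a.2
  obtain ⟨b1, -⟩ := inU_zero.1 b⁻¹.2
  refine e2 (mul_eq_one_iff_eq_inv.2 (Units.ext ?_))
  rw [← map_inv, psi_val, psi_val]
  congr 1
  unfold sd
  rw [← Equiv.sum_comp w]
  refine sum_congr rfl fun i _ => ?_
  rw [← Equiv.sum_comp w]
  refine sum_congr rfl fun j _ => ?_
  have e3 := e1 i j
  simp only [zero_le, and_true]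
  by_cases h1 : j.1 = i.1 + 1
  · rw [if_pos h1]
    rcases h i j h1 with h2 | h2
    · rw [a1 h2, zero_mul, eq_comm, mul_eq_zero] at e3
      rw [if_neg (by rw [Fin.lt_def] at h2; omega), e3.resolve_left (c i).ne_zero]
    · rw [if_pos h2.1]
      rw [h2.2, mul_comm] at e3
      exact mul_left_cancel₀ (c j).ne_zero e3
  · rw [if_neg h1]
    split_ifs with h2
    · have : j < i := lt_of_le_of_ne (not_lt.1 fun h3 => h1 (h.relP.adj h3 h2)) fun e => by
        rw [e] at h2; omega
      rw [b1 this, mul_zero, mul_eq_zero] at e3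
      exact e3.resolve_right (c j).ne_zero
    · rfl

/-- Root elements. -/
def rootU {i j : Fin n} (h : i < j) (t : F) : Uni n F :=
  ⟨GeneralLinearGroup.mkOfDetNeZero (transvection i j t)
    (by rw [det_transvection_of_ne _ _ h.ne]; exact one_ne_zero), fun k l e => by
    change transvection i j t k l = _
    rw [transvection, Matrix.add_apply, single_apply_of_ne, add_zero]
    rintro ⟨rfl, rfl⟩
    exact h.not_ge (e.resolve_left (Nat.not_lt_zero _))⟩

theorem rootU_val {i j : Fin n} (h : i < j) (t : F) : (rootU h t).1.1 = 1 + single i j t := rfl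

theorem sd_add (k : ℕ) (M N : Matrix (Fin n) (Fin n) F) : sd k (M + N) = sd k M + sd k N := by
  simp only [sd, ← sum_add_distrib]
  exact sum_congr rfl fun i _ => sum_congr rfl fun j _ => by split_ifs <;> simp

theorem sd_single (k : ℕ) (i j : Fin n) (t : F) :
    sd k (single i j t) = if j.1 = i.1 + 1 ∧ k ≤ j.1 then t else 0 := by
  rw [sd, sum_eq_single i _ (by simp), sum_eq_single j _ (by simp), single_apply_same]
  · intro l _ hl
    rw [single_apply_of_col_ne _ _ hl.symm, ite_self]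
  · intro l _ hl
    exact sum_eq_zero fun m _ => by rw [single_apply_of_row_ne hl.symm, ite_self]

theorem exists_ne_one (hψ : ψ0 ≠ 1) {x : F} (hx : x ≠ 0) : ∃ t, ψ0 (t * x) ≠ 1 := by
  obtain ⟨y, hy⟩ := AddChar.ne_one_iff.1 hψ
  exact ⟨y / x, by rwa [div_mul_cancel₀ _ hx]⟩

theorem irrel_of (hψ : ψ0 ≠ 1) {w : Equiv.Perm (Fin n)} {c : Fin n → Fˣ} (h : ¬ RelM w c) :
    Irrel (Uni n F) (psi n ψ0) (mono w c) := by
  simp only [RelM, not_forall, not_or, not_and, not_lt] at h
  obtain ⟨j, j', e, h1, h2⟩ := h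
  have h3 : j < j' := by rw [Fin.lt_def]; omega
  have h4 : w j < w j' := lt_of_le_of_ne h1 fun e => h3.ne (w.injective e)
  obtain ⟨t, ht⟩ := exists_ne_one hψ
    (x := 1 - if (w j').1 = (w j).1 + 1 then (c j : F) / c j' else 0) (by
      split_ifs with h
      · rw [sub_ne_zero, ne_comm, Ne, div_eq_one_iff_eq (c j').ne_zero]
        exact fun e => h2 h (Units.ext e)
      · simp)
  refine ⟨(rootU h4 (t * (c j / c j')))⁻¹, rootU h3 t, ?_, fun e' => ht ?_⟩
  · rw [Subgroup.coe_inv, mul_assoc, inv_mul_eq_iff_eq_mul]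
    ext k l
    obtain ⟨k, rfl⟩ := w.surjective k
    rw [Units.val_mul, Units.val_mul, mul_mono, mono_mul, rootU_val, rootU_val]
    simp only [Matrix.add_apply, one_apply, single_apply, EmbeddingLike.apply_eq_iff_eq]
    by_cases a1 : k = l
    · subst a1
      have : ¬ (j = k ∧ j' = k) := fun a => h3.ne (a.1.trans a.2.symm)
      simp [this]
    · by_cases a2 : j = k ∧ j' = l
      · obtain ⟨rfl, rfl⟩ := a2
        simp only [a1, if_false, and_self, if_true, zero_add]
        field_simp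
      · simp [a1, a2]
  · rw [map_inv, inv_mul_eq_one] at e'
    have := congrArg Units.val e'
    rw [psi_val, psi_val, rootU_val, rootU_val, sd_add, sd_add, sd_one, sd_single, sd_single,
      if_pos (show j'.1 = j.1 + 1 ∧ 0 ≤ j'.1 from ⟨e, zero_le⟩), zero_add, zero_add] at this
    rw [mul_sub, mul_one, AddChar.map_sub_eq_div, ← this, div_eq_one_iff_eq]
    · simp
    · exact (AddChar.val_isUnit _ _).ne_zero

/-- Transposition in the second diagonal. -/
def iota (g : GL (Fin n) F) : GL (Fin n) F :=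
  ⟨g.1ᵀ.submatrix Fin.revPerm Fin.revPerm, g⁻¹.1ᵀ.submatrix Fin.revPerm Fin.revPerm,
    by rw [submatrix_mul_equiv, ← transpose_mul, ← Units.val_mul]; simp,
    by rw [submatrix_mul_equiv, ← transpose_mul, ← Units.val_mul]; simp⟩

theorem iota_apply (g : GL (Fin n) F) (i j : Fin n) : (iota g).1 i j = g.1 j.rev i.rev := rfl

theorem iota_mul (a b : GL (Fin n) F) : iota (a * b) = iota b * iota a :=
  Units.ext (by
    change _ = (iota b).1 * (iota a).1
    simp only [iota, submatrix_mul_equiv, ← transpose_mul, Units.val_mul])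

theorem iota_mem (u : Uni n F) : iota u.1 ∈ Uni n F := fun i j e => by
  rw [iota_apply, u.2 _ _ (Or.inr (Fin.rev_le_rev.2 (e.resolve_left (Nat.not_lt_zero _))))]
  simp [one_apply, eq_comm]

/-- `iota` on the unitriangular group. -/
def iotaU : Uni n F ≃ Uni n F :=
  Function.Involutive.toPerm (fun u => ⟨iota u.1, iota_mem u⟩) fun u => by
    ext i j
    simp [iota_apply]

theorem psi_iota (u : Uni n F) : psi n ψ0 (iotaU u) = psi n ψ0 u := by
  apply Units.ext
  rw [psi_val, psi_val]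
  congr 1
  unfold sd
  rw [sum_comm, ← Equiv.sum_comp Fin.revPerm]
  refine sum_congr rfl fun i _ => ?_
  rw [← Equiv.sum_comp Fin.revPerm]
  refine sum_congr rfl fun j _ => ?_
  change ite _ ((iota u.1).1 j.rev i.rev) _ = _
  rw [iota_apply, Fin.rev_rev, Fin.rev_rev]
  refine if_congr ?_ rfl rfl
  simp only [Fin.revPerm_apply, Fin.val_rev]
  omega

theorem iota_mono {w : Equiv.Perm (Fin n)} {c : Fin n → Fˣ} (h : RelM w c) :
    iota (mono w c) = mono w c := by
  ext i j
  rw [iota_apply, mono_apply, mono_apply]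
  by_cases e : i = w j
  · rw [e, if_pos rfl, if_pos (h.inv j).1.symm, (h.inv j).2]
  · rw [if_neg e, if_neg fun e' => e ?_]
    have := (h.inv i.rev).1
    rw [← e', Fin.rev_rev, Fin.rev_rev] at this
    exact this.symm

variable [Fintype F] [DecidableEq F] [Fintype (Uni n F)]

theorem gam_le_one (hψ : ψ0 ≠ 1) {χ : GL (Fin n) F → ℂ} (hχ : IsIrrCharacter _ χ) :
    gam (Uni n F) (psi n ψ0) χ = 0 ∨ gam (Uni n F) (psi n ψ0) χ = 1 :=
  gelfand iota iota_mul iotaU (fun _ => rfl) psi_iota (fun g => by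
    obtain ⟨a, b, w, c, e⟩ := bruhat g
    by_cases h : RelM w c
    · exact ⟨a, b, _, e, Or.inr (iota_mono h)⟩
    · exact ⟨a, b, _, e, Or.inl (irrel_of hψ h)⟩) hχ

theorem card_generic (hψ : ψ0 ≠ 1) :
    Nat.card {χ : IrrCharacter (GL (Fin n) F) // gam (Uni n F) (psi n ψ0) χ = 1} =
      aN (Fintype.card F) n := by
  classical
  let f : {d : Fin n → F // Brk d 0} → GL (Fin n) F := fun d => mono (wOf d.2) (cOf d.2)
  have hf : ∀ (d d' : {d : Fin n → F // Brk d 0}) (a b : Uni n F), f d' = a * f d * b → d = d' :=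
    fun d d' a b e => Subtype.ext (code_inj d.2 d'.2 (bruhat_uniq e).1 (bruhat_uniq e).2)
  have h := sum_gam_sq (U := Uni n F) (ψ := psi n ψ0) (univ.image f)
    (fun r hr => by
      obtain ⟨d, -, rfl⟩ := mem_image.1 hr
      exact not_irrel (relM_of d.2))
    (fun g => by
      obtain ⟨a, b, w, c, rfl⟩ := bruhat g
      by_cases h : RelM w c
      · obtain ⟨d, h0, rfl, rfl⟩ := h.exists_code
        exact Or.inr ⟨f ⟨d, h0⟩, mem_image_of_mem f (mem_univ _), a, b, rfl⟩
      · exact Or.inl ((irrel_of hψ h).mul a b))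
    (fun r hr r' hr' a b e => by
      obtain ⟨d, -, rfl⟩ := mem_image.1 hr
      obtain ⟨d', -, rfl⟩ := mem_image.1 hr'
      rw [hf d d' a b e])
  rw [card_image_of_injective _ fun d d' e => hf d d' 1 1 (by simp [e]), card_univ,
    ← Nat.card_eq_fintype_card, card_code] at h
  have h2 : ∀ χ : IrrCharacter (GL (Fin n) F),
      gam (Uni n F) (psi n ψ0) χ * conj (gam (Uni n F) (psi n ψ0) χ) =
        if gam (Uni n F) (psi n ψ0) χ = 1 then 1 else 0 := fun χ => by
    rcases gam_le_one hψ χ.2 with e | e <;> simp [e]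
  simp only [h2, sum_boole] at h
  rw [Nat.card_eq_fintype_card, Fintype.card_subtype]
  exact_mod_cast h

end CF.Cusp
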